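import Groth.Agent.DimFormulaLib.LocalDim

/-!
Relative differentials at a rational point bound the dimension of the fibre.
-/

set_option autoImplicit false
set_option linter.style.haveILetI false

universe u

open Groth.Agent.DimFormulaLib IsLocalRing

namespace Groth.Agent.OmegaDimLib

theorem exists_map_to_cotangent {k R S : Type u} [Field k] [CommRing R] [CommRing S] [Algebra k R] [Algebra k S]
    [Algebra R S] [IsScalarTower k R S] [Algebra.FiniteType k S] (p q : PrimeSpectrum S) (hpq : p ≤ q)
    (hq : Function.Bijective (algebraMap k (S ⧸ q.asIdeal))) [q.asIdeal.IsMaximal]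
    (hR : ∀ b : R, algebraMap R S b ∈ q.asIdeal → algebraMap R S b ∈ p.asIdeal) (r : ℕ)
    (htr : Algebra.trdeg k (S ⧸ p.asIdeal) = r) {M : Type u} [AddCommGroup M] [Module S M]
    (ℓ : Ω[S⁄R] →ₗ[S] M) [IsLocalizedModule q.asIdeal.primeCompl ℓ] :
    ∃ (C : Type u) (_ : AddCommGroup C) (_ : Module k C) (γ : M →+ C), Function.Surjective γ ∧
      (∀ b ∈ q.asIdeal, ∀ z, γ (b • z) = 0) ∧ (∀ (c : k) z, γ ((algebraMap k S c) • z) = c • γ z) ∧
      r ≤ Module.finrank k C := by
  classical
  haveI : IsNoetherianRing S := Algebra.FiniteType.isNoetherianRing k S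
  let T := S ⧸ p.asIdeal
  let q' : Ideal T := q.asIdeal.map (Ideal.Quotient.mk p.asIdeal)
  have hq'c : q'.comap (Ideal.Quotient.mk p.asIdeal) = q.asIdeal := by
    rw [Ideal.comap_map_of_surjective _ Ideal.Quotient.mk_surjective, ← RingHom.ker_eq_comap_bot, Ideal.mk_ker]
    exact sup_eq_left.2 hpq
  haveI : q'.IsPrime := Ideal.map_isPrime_of_surjective Ideal.Quotient.mk_surjective (by rw [Ideal.mk_ker]; exact hpq)
  have hq0 : Algebra.trdeg k (S ⧸ q.asIdeal) = (0 : ℕ) := by
    haveI : Module.Finite k (S ⧸ q.asIdeal) := Module.Finite.of_surjective (Algebra.linearMap k _) hq.2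
    rw [trdeg_eq_zero, Nat.cast_zero]
  obtain ⟨a, ha, hra⟩ := trdeg_eq_relHeight_add k S hpq r 0 htr hq0
  let B := Localization.AtPrime q'
  have hdim : ringKrullDim B = r := by
    rw [IsLocalization.AtPrime.ringKrullDim_eq_height q' B, show q'.height = relHeight p q from rfl, ha, hra, add_zero]
    rfl
  let ψ : S →+* B := (algebraMap T B).comp (Ideal.Quotient.mk p.asIdeal)
  have hψeq : ∀ s, algebraMap S B s = ψ s := IsScalarTower.algebraMap_apply S T B
  let m := maximalIdeal B
  have hψm : ∀ s, ψ s ∈ m ↔ s ∈ q.asIdeal := fun s => by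
    show algebraMap T B (Ideal.Quotient.mk p.asIdeal s) ∈ maximalIdeal B ↔ _
    rw [IsLocalization.AtPrime.to_map_mem_maximal_iff B q', ← Ideal.mem_comap, hq'c]
  -- the value at the point
  let e := RingEquiv.ofBijective (algebraMap k (S ⧸ q.asIdeal)) hq
  let c : S →+* k := e.symm.toRingHom.comp (Ideal.Quotient.mk q.asIdeal)
  have hck : ∀ a : k, c (algebraMap k S a) = a := fun a => e.symm_apply_apply a
  have hc : ∀ s, s - algebraMap k S (c s) ∈ q.asIdeal := fun s => by
    rw [← Ideal.Quotient.eq_zero_iff_mem, map_sub, sub_eq_zero]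
    exact (e.apply_symm_apply _).symm
  have hc0 : ∀ s, s ∈ q.asIdeal → c s = 0 := fun s hs => by
    show e.symm _ = 0
    rw [Ideal.Quotient.eq_zero_iff_mem.2 hs, map_zero]
  have hsmul : ∀ (s : S) (v : m.Cotangent), s • v = c s • v := fun s v => by
    rw [← algebraMap_smul B s v, hψeq]
    obtain ⟨x, rfl⟩ := m.toCotangent_surjective v
    rw [← algebraMap_smul B (c s) (m.toCotangent x), ← sub_eq_zero, ← sub_smul, ← map_smul,
      Ideal.toCotangent_eq_zero, pow_two]
    show (ψ s - algebraMap k B (c s)) * (x : B) ∈ m * m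
    rw [IsScalarTower.algebraMap_apply k S B, hψeq]
    rw [← map_sub]
    exact Ideal.mul_mem_mul ((hψm _).2 (hc s)) x.2
  let δ₀ : S → m.Cotangent := fun s => m.toCotangent ⟨ψ (s - algebraMap k S (c s)), (hψm _).2 (hc s)⟩
  have hadd : ∀ s t, δ₀ (s + t) = δ₀ s + δ₀ t := fun s t => by
    simp only [δ₀, ← map_add]
    exact congrArg m.toCotangent (Subtype.ext (by simp only [map_add, map_sub, Submodule.coe_add]; ring))
  have hmul : ∀ s t, δ₀ (s * t) = s • δ₀ t + t • δ₀ s := fun s t => by
    have h3 : t • δ₀ s = algebraMap k S (c t) • δ₀ s := by rw [hsmul, hsmul, hck]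
    rw [h3]
    rw [← algebraMap_smul B s (δ₀ t), ← algebraMap_smul B (algebraMap k S (c t)) (δ₀ s), hψeq, hψeq]
    simp only [δ₀, ← map_smul, ← map_add]
    refine congrArg m.toCotangent (Subtype.ext ?_)
    simp only [map_mul, map_sub, Submodule.coe_add, Submodule.coe_smul, smul_eq_mul]
    ring
  have hδ1 : δ₀ 1 = 0 := by
    have h1 := hmul 1 1
    rw [mul_one, hsmul, map_one, one_smul] at h1
    exact left_eq_add.1 h1
  have hδR : ∀ b : R, δ₀ (algebraMap R S b) = 0 := fun b => by
    have h1 := hR (b - algebraMap k R (c (algebraMap R S b))) (by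
      rw [map_sub, ← IsScalarTower.algebraMap_apply]
      exact hc _)
    rw [map_sub, ← IsScalarTower.algebraMap_apply] at h1
    have h0 : ψ (algebraMap R S b - algebraMap k S (c (algebraMap R S b))) = 0 := by
      show algebraMap T B (Ideal.Quotient.mk p.asIdeal _) = 0
      rw [Ideal.Quotient.eq_zero_iff_mem.2 h1, map_zero]
    show m.toCotangent _ = 0
    rw [← map_zero m.toCotangent]
    exact congrArg m.toCotangent (Subtype.ext h0)
  haveI : IsScalarTower R S m.Cotangent := ⟨fun a b v => by
    rw [← algebraMap_smul B (a • b) v, ← algebraMap_smul B a (b • v), ← algebraMap_smul B b v, Algebra.smul_def, map_mul,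
      ← IsScalarTower.algebraMap_apply, mul_smul]⟩
  let D : Derivation R S m.Cotangent :=
    Derivation.mk'
      { toFun := δ₀
        map_add' := hadd
        map_smul' := fun b s => by
          show δ₀ (b • s) = b • δ₀ s
          rw [Algebra.smul_def, hmul, hδR, smul_zero, add_zero, algebraMap_smul] }
      fun s t => hmul s t
  let g : Ω[S⁄R] →ₗ[S] m.Cotangent := D.liftKaehlerDifferential
  have hunit : ∀ x : q.asIdeal.primeCompl, IsUnit (algebraMap S (Module.End S m.Cotangent) x) := fun x => by
    have hx : c x.1 ≠ 0 := fun h => x.2 (by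
      have h1 := hc x.1
      rwa [h, map_zero, sub_zero] at h1)
    refine (Module.End.isUnit_iff _).2 ⟨fun v w hvw => ?_, fun v => ⟨(c x.1)⁻¹ • v, ?_⟩⟩
    · have h1 : x.1 • v = x.1 • w := hvw
      rw [hsmul, hsmul] at h1
      exact smul_right_injective _ hx h1
    · show x.1 • ((c x.1)⁻¹ • v) = v
      rw [hsmul, smul_smul, mul_inv_cancel₀ hx, one_smul]
  let γ : M →ₗ[S] m.Cotangent := IsLocalizedModule.lift q.asIdeal.primeCompl ℓ g hunit
  have hγ : ∀ ω, γ (ℓ ω) = g ω := fun ω => IsLocalizedModule.lift_apply q.asIdeal.primeCompl ℓ g hunit ω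
  refine ⟨m.Cotangent, inferInstance, inferInstance, γ.toAddMonoidHom, fun v => ?_, fun b hb z => ?_, fun a z => ?_, ?_⟩
  · obtain ⟨⟨x, hx⟩, rfl⟩ := m.toCotangent_surjective v
    obtain ⟨t, ⟨u, hu⟩, htu⟩ := IsLocalization.exists_mk'_eq q'.primeCompl x
    obtain ⟨s, rfl⟩ := Ideal.Quotient.mk_surjective t
    obtain ⟨s', rfl⟩ := Ideal.Quotient.mk_surjective u
    have hs' : s' ∉ q.asIdeal := fun h => hu (Ideal.mem_map_of_mem _ h)
    have hxs : ψ s' * x = ψ s := by rw [← htu]; exact IsLocalization.mk'_spec' B _ _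
    have hs : s ∈ q.asIdeal := (hψm s).1 (hxs ▸ Ideal.mul_mem_left _ _ hx)
    have hcs' : c s' ≠ 0 := fun h => hs' (by
      have h1 := hc s'
      rwa [h, map_zero, sub_zero] at h1)
    refine ⟨algebraMap k S (c s')⁻¹ • ℓ (KaehlerDifferential.D R S s), ?_⟩
    show γ _ = _
    rw [map_smul, hγ, hsmul, hck, Derivation.liftKaehlerDifferential_comp_D]
    show (c s')⁻¹ • δ₀ s = _
    rw [inv_smul_eq_iff₀ hcs', ← hsmul]
    rw [← algebraMap_smul B s' (m.toCotangent ⟨x, hx⟩), hψeq]
    rw [← map_smul]
    refine congrArg m.toCotangent (Subtype.ext ?_)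
    show ψ (s - algebraMap k S (c s)) = ψ s' * x
    rw [hxs, hc0 s hs, map_zero, sub_zero]
  · show γ (b • z) = 0
    rw [map_smul, hsmul, hc0 b hb, zero_smul]
  · show γ _ = a • γ z
    rw [map_smul, hsmul, hck]
  · haveI : IsNoetherianRing B := IsLocalization.isNoetherianRing q'.primeCompl B inferInstance
    have hsurjB : Function.Surjective (algebraMap k (ResidueField B)) := fun v => by
      obtain ⟨x, rfl⟩ := residue_surjective v
      obtain ⟨t, ⟨u, hu⟩, htu⟩ := IsLocalization.exists_mk'_eq q'.primeCompl x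
      obtain ⟨s, rfl⟩ := Ideal.Quotient.mk_surjective t
      obtain ⟨s', rfl⟩ := Ideal.Quotient.mk_surjective u
      have hres : ∀ y, residue B (ψ y) = algebraMap k (ResidueField B) (c y) := fun y => by
        have h1 := (residue_eq_zero_iff _).2 ((hψm _).2 (hc y))
        rw [map_sub, map_sub, sub_eq_zero] at h1
        exact h1
      have hs' : s' ∉ q.asIdeal := fun h => hu (Ideal.mem_map_of_mem _ h)
      have hcs' : c s' ≠ 0 := fun h => hs' (by
        have h1 := hc s'
        rwa [h, map_zero, sub_zero] at h1)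
      refine ⟨c s / c s', ?_⟩
      have hxs : ψ s' * x = ψ s := by rw [← htu]; exact IsLocalization.mk'_spec' B _ _
      have h2 := congrArg (residue B) hxs
      rw [map_mul, hres, hres] at h2
      rw [map_div₀, div_eq_iff (by simpa using hcs'), mul_comm, ← h2]
    haveI : Module.Finite k (ResidueField B) := Module.Finite.of_surjective (Algebra.linearMap k _) hsurjB
    have h1 : Module.finrank k (ResidueField B) = 1 := by
      rw [← (LinearEquiv.ofBijective (Algebra.linearMap k (ResidueField B))
        ⟨(algebraMap k (ResidueField B)).injective, hsurjB⟩).finrank_eq, Module.finrank_self]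
    haveI : IsScalarTower k (ResidueField B) (CotangentSpace B) := IsScalarTower.of_algebraMap_smul fun a v => by
      rw [IsScalarTower.algebraMap_apply k B (ResidueField B)]
      obtain ⟨y, rfl⟩ := m.toCotangent_surjective v
      exact (algebraMap_smul (ResidueField B) (algebraMap k B a) (m.toCotangent y)).trans (algebraMap_smul B a _)
    have h2 : Module.finrank k (CotangentSpace B) = Module.finrank (ResidueField B) (CotangentSpace B) := by
      rw [← Module.finrank_mul_finrank k (ResidueField B) (CotangentSpace B), h1, one_mul]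
    have h3 := ringKrullDim_le_spanFinrank_maximalIdeal (R := B)
    rw [hdim, spanFinrank_maximalIdeal_eq_finrank_cotangentSpace, ← h2] at h3
    exact_mod_cast h3

end Groth.Agent.OmegaDimLib
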