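import Groth.Agent.OmegaDimLib.Alg
import Groth.Agent.OmegaAffLib.Stalk
import Groth.Agent.FlatDim.Trdeg
import Groth.Prelude.Def_FixPt
import Groth.Prelude.Def_CurvBase

/-!
The fibre of the differentials at a closed point bounds the dimension of the fibre of a morphism.
-/

set_option autoImplicit false
set_option backward.isDefEq.respectTransparency false
set_option backward.defeqAttrib.useBackward true
set_option linter.style.haveILetI false

universe u

open CategoryTheory CategoryTheory.Limits AlgebraicGeometry TopologicalSpace Opposite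
open Groth.Agent.DimFormulaLib Groth.Agent.FlatLocus
attribute [local instance] FixPt.fiberModule

namespace Groth.Agent.OmegaDimLib

variable (k : Type u) [Field k]

/-- The structure map into the sections over an open. -/
noncomputable def secHom {X : Scheme.{u}} (s : X ⟶ Spec (CommRingCat.of k)) (U : X.Opens) : k →+* Γ(X, U) :=
  (s.appLE ⊤ U le_top).hom.comp (Scheme.ΓSpecIso (CommRingCat.of k)).inv.hom

theorem secHom_chart {X : Scheme.{u}} (s : X ⟶ Spec (CommRingCat.of k)) {U : X.Opens} (hU : IsAffineOpen U) :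
    hU.fromSpec ≫ s = Spec.map (CommRingCat.ofHom (secHom k s U)) := by
  rw [← IsAffineOpen.SpecMap_appLE_fromSpec s (isAffineOpen_top _) hU le_top, IsAffineOpen.fromSpec_top,
    Scheme.isoSpec_Spec_inv, ← Spec.map_comp]
  rfl

theorem secHom_comp {X Y : Scheme.{u}} (f : X ⟶ Y) (t : Y ⟶ Spec (CommRingCat.of k)) {V : Y.Opens} {U : X.Opens}
    (h : U ≤ f ⁻¹ᵁ V) : (f.appLE V U h).hom.comp (secHom k t V) = secHom k (f ≫ t) U := by
  rw [secHom, secHom, ← RingHom.comp_assoc, ← CommRingCat.hom_comp, Scheme.Hom.appLE_comp_appLE]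

theorem germ_secHom {X : Scheme.{u}} (s : X ⟶ Spec (CommRingCat.of k)) {U : X.Opens} (x : X) (hx : x ∈ U) (a : k) :
    X.presheaf.germ U x hx (secHom k s U a) = X.presheaf.germ ⊤ x trivial (Coh.toGlobal s a) := by
  show X.presheaf.germ U x hx (s.appLE ⊤ U le_top ((Scheme.ΓSpecIso (CommRingCat.of k)).inv a)) = _
  rw [Scheme.Hom.appLE, CommRingCat.comp_apply, TopCat.Presheaf.germ_res_apply]
  rfl

theorem resTrdegAt_chart {X S : Scheme.{u}} (s : X ⟶ S) {η : X} (c : Chart s η) (hA : IsField c.A) :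
    resTrdegAt s η = Algebra.trdeg c.A (c.B ⧸ c.q.asIdeal) := by
  letI := hA.toField
  rw [c.resTrdegAt_self]
  have hbot : c.p.asIdeal = ⊥ := (Ideal.eq_bot_or_top _).resolve_right c.p.2.ne_top
  let E : c.A ≃+* c.A ⧸ c.p.asIdeal := RingEquiv.ofBijective (Ideal.Quotient.mk c.p.asIdeal)
    ⟨(RingHom.injective_iff_ker_eq_bot _).2 (Ideal.mk_ker.trans hbot), Ideal.Quotient.mk_surjective⟩
  exact trdeg_eq_of_ringEquiv E.symm (RingEquiv.refl _) fun r => by
    obtain ⟨a, rfl⟩ := E.surjective r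
    rw [RingEquiv.symm_apply_apply]
    rfl

theorem le_finrank_fiber [IsAlgClosed k] {X Y : Scheme.{u}} [X.Over (Spec (CommRingCat.of k))]
    [Y.Over (Spec (CommRingCat.of k))] [LocallyOfFiniteType (X ↘ Spec (CommRingCat.of k))]
    (f : X ⟶ Y) (hf : f ≫ (Y ↘ Spec (CommRingCat.of k)) = X ↘ Spec (CommRingCat.of k))
    (x : X) (hx : IsClosed ({x} : Set X)) (Z : Set X) (hZ : IsIrreducible Z) (hZc : IsClosed Z) (hxZ : x ∈ Z)
    (hZf : Z ⊆ f.base ⁻¹' {f.base x}) (r : ℕ) (hr : topologicalKrullDim ↥Z = (r : WithBot ℕ∞)) :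
    r ≤ Module.finrank k (FixPt.fiber (Omega.sheaf f) x) := by
  let sX := X ↘ Spec (CommRingCat.of k)
  let sY := Y ↘ Spec (CommRingCat.of k)
  haveI : IsLocallyNoetherian X := LocallyOfFiniteType.isLocallyNoetherian sX
  haveI : QuasiSeparated f := inferInstance
  haveI : LocallyOfFiniteType (f ≫ sY) := by rw [hf]; infer_instance
  haveI : LocallyOfFiniteType f := locallyOfFiniteType_of_comp f sY
  obtain ⟨η, hη⟩ := QuasiSober.sober hZ hZc
  have hηx : η ⤳ x := hη.specializes hxZ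
  have hfη : f η = f x := hZf hη.mem
  obtain ⟨_, ⟨V : Y.Opens, (hV : IsAffineOpen V), rfl⟩, hxV, -⟩ :=
    Y.isBasis_affineOpens.exists_subset_of_mem_open (Set.mem_univ (f x)) isOpen_univ
  obtain ⟨_, ⟨U : X.Opens, (hU : IsAffineOpen U), rfl⟩, hxU, hUV⟩ :=
    X.isBasis_affineOpens.exists_subset_of_mem_open (a := x) (u := ↑(f ⁻¹ᵁ V)) hxV (f ⁻¹ᵁ V).2
  have hηU : η ∈ U := hηx.mem_open U.2 hxU
  letI : Algebra k Γ(Y, V) := (secHom k sY V).toAlgebra
  letI : Algebra k Γ(X, U) := (secHom k sX U).toAlgebra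
  letI : Algebra Γ(Y, V) Γ(X, U) := (f.appLE V U hUV).hom.toAlgebra
  haveI : IsScalarTower k Γ(Y, V) Γ(X, U) := .of_algebraMap_eq' (by
    show secHom k sX U = (f.appLE V U hUV).hom.comp (secHom k sY V)
    rw [secHom_comp]; exact (congrArg (fun g => secHom k g U) hf).symm)
  haveI : Algebra.FiniteType k Γ(X, U) :=
    (sX.finiteType_appLE (isAffineOpen_top _) hU le_top).comp
      (RingHom.FiniteType.of_surjective _ (Scheme.ΓSpecIso (CommRingCat.of k)).symm.commRingCatIsoToRingEquiv.surjective)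
  haveI : Algebra.FiniteType Γ(Y, V) Γ(X, U) := Algebra.FiniteType.of_restrictScalars_finiteType k _ _
  haveI : Module.Finite Γ(X, U) Ω[Γ(X, U)⁄Γ(Y, V)] := inferInstance
  let p := hU.primeIdealOf ⟨η, hηU⟩
  let q := hU.primeIdealOf ⟨x, hxU⟩
  have hpq : p ≤ q := by
    rw [PrimeSpectrum.le_iff_specializes]
    refine hU.fromSpec.isOpenEmbedding.isInducing.specializes_iff.1 ?_
    simp only [p, q, hU.fromSpec_primeIdealOf]
    exact hηx
  haveI : q.asIdeal.IsMaximal := hU.primeIdealOf_isMaximal_of_isClosed ⟨x, hxU⟩ hx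
  have hq : Function.Bijective (algebraMap k (Γ(X, U) ⧸ q.asIdeal)) := by
    letI := Ideal.Quotient.field q.asIdeal
    haveI : Module.Finite k (Γ(X, U) ⧸ q.asIdeal) := finite_of_finite_type_of_isJacobsonRing k _
    exact IsAlgClosed.algebraMap_bijective_of_isIntegral
  have hmem : ∀ (z : X) (hz : z ∈ U) (s : Γ(X, U)),
      s ∈ (hU.primeIdealOf ⟨z, hz⟩).asIdeal ↔ z ∉ X.basicOpen s := fun z hz s => by
    have h1 : z ∈ X.basicOpen s ↔ hU.primeIdealOf ⟨z, hz⟩ ∈ PrimeSpectrum.basicOpen s := by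
      rw [← hU.fromSpec_preimage_basicOpen]
      show z ∈ X.basicOpen s ↔ hU.fromSpec _ ∈ X.basicOpen s
      rw [hU.fromSpec_primeIdealOf]
    rw [h1]
    exact not_not.symm
  have hR : ∀ b : Γ(Y, V), algebraMap Γ(Y, V) Γ(X, U) b ∈ q.asIdeal → algebraMap Γ(Y, V) Γ(X, U) b ∈ p.asIdeal := by
    intro b hb
    rw [RingHom.algebraMap_toAlgebra, hmem _ _, Scheme.basicOpen_appLE] at hb ⊢
    rintro ⟨-, h2⟩
    refine hb ⟨hxU, ?_⟩
    show f x ∈ Y.basicOpen b
    rw [← hfη]; exact h2
  have htr : Algebra.trdeg k (Γ(X, U) ⧸ p.asIdeal) = r := by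
    let c : Chart sX η := { A := k, B := Γ(X, U), i := 𝟙 _, j := hU.fromSpec, w := by
                              rw [Category.comp_id]; exact secHom_chart k sX hU
                            q := p, hq := hU.fromSpec_primeIdealOf ⟨η, hηU⟩ }
    obtain ⟨t, ht, hdim⟩ := FlatDim.topologicalKrullDim_closure k sX η
    rw [hη.def] at hdim
    have hrt : t = r := by exact_mod_cast hdim.symm.trans hr
    subst hrt
    rw [← ht, resTrdegAt_chart sX c (show IsField k from Field.toIsField k)]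
  letI := Module.compHom ((Omega.sheaf f).presheaf.stalk x) (X.presheaf.germ U x hxU).hom
  haveI := OmegaAffLib.isLocalizedModule_stalk f hV hU hUV x hxU
  let ℓ := (germL (Omega.sheaf f) U x hxU).comp (OmAff.toSect f V U hUV).hom
  haveI : IsLocalizedModule q.asIdeal.primeCompl ℓ := this
  obtain ⟨C, _, _, γ, hγ, hγq, hγk, hC⟩ := exists_map_to_cotangent p q hpq hq hR r htr ℓ
  refine hC.trans ?_
  -- the stalk of the structure sheaf
  let A := X.presheaf.stalk x
  let M := (Omega.sheaf f).presheaf.stalk x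
  let ρ : Γ(X, U) →+* A := (X.presheaf.germ U x hxU).hom
  letI : Algebra Γ(X, U) A := ρ.toAlgebra
  haveI : IsLocalization.AtPrime A q.asIdeal := hU.isLocalization_stalk ⟨x, hxU⟩
  have hρ : ∀ s (v : M), s • v = ρ s • v := fun s v => rfl
  have hmax : ∀ s ∈ q.asIdeal, ρ s ∈ IsLocalRing.maximalIdeal A := fun s hs =>
    (IsLocalization.AtPrime.to_map_mem_maximal_iff A q.asIdeal s).2 hs
  let π : M →ₗ[A] FixPt.fiber (Omega.sheaf f) x := FixPt.fiberMk (Omega.sheaf f) x
  have hkπ : ∀ (a : k) (v : M), a • π v = π (algebraMap k Γ(X, U) a • v) := fun a v => by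
    rw [hρ, map_smul]
    show Curv2.stalkMap k X x a • π v = _
    rw [show ρ (algebraMap k Γ(X, U) a) = Curv2.stalkMap k X x a from germ_secHom k sX x hxU a]
  have hker : ∀ v, π v = 0 → γ v = 0 := fun v hv => by
    have hv' : v ∈ IsLocalRing.maximalIdeal A • (⊤ : Submodule A M) := (Submodule.Quotient.mk_eq_zero _).1 hv
    refine Submodule.smul_induction_on hv' (fun a ha w _ => ?_) (fun u w hu hw => by rw [map_add, hu, hw, add_zero])
    obtain ⟨⟨b, s⟩, hbs⟩ := IsLocalization.surj q.asIdeal.primeCompl a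
    have hb : b ∈ q.asIdeal := (IsLocalization.AtPrime.to_map_mem_maximal_iff A q.asIdeal b).1
      (by rw [← hbs]; exact Ideal.mul_mem_right _ _ ha)
    obtain ⟨e, he⟩ := IsLocalization.map_units A s
    have h1 : a • w = b • ((e⁻¹ : Aˣ) : A) • w := by
      rw [hρ, show ρ b = a * e by rw [he]; exact hbs.symm, ← mul_smul, mul_assoc, Units.mul_inv, mul_one]
    rw [h1]
    exact hγq b hb _
  have hπ : Function.Surjective π := Submodule.Quotient.mk_surjective _
  let γ' : FixPt.fiber (Omega.sheaf f) x → C := fun w => γ (hπ w).choose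
  have hγ' : ∀ v, γ' (π v) = γ v := fun v => by
    show γ _ = γ v
    rw [← sub_eq_zero, ← map_sub]
    exact hker _ (by rw [map_sub, (hπ (π v)).choose_spec, sub_self])
  let L : FixPt.fiber (Omega.sheaf f) x →ₗ[k] C :=
    { toFun := γ'
      map_add' := fun a b => by
        obtain ⟨u, rfl⟩ := hπ a
        obtain ⟨v, rfl⟩ := hπ b
        rw [← map_add, hγ', hγ', hγ', map_add]
      map_smul' := fun a b => by
        obtain ⟨u, rfl⟩ := hπ b
        rw [hkπ, hγ', hγ', hγk]
        rfl }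
  have hL : Function.Surjective L := fun z => by
    obtain ⟨v, rfl⟩ := hγ z
    exact ⟨π v, hγ' v⟩
  -- the fibre is finite over the field
  obtain ⟨n, ω, hω⟩ := Module.Finite.exists_fin (R := Γ(X, U)) (M := Ω[Γ(X, U)⁄Γ(Y, V)])
  let W : Submodule k (FixPt.fiber (Omega.sheaf f) x) := Submodule.span k (Set.range fun i => π (ℓ (ω i)))
  have hval : ∀ s : Γ(X, U), ∃ a : k, ∀ v : M, π (s • v) = a • π v := fun s => by
    obtain ⟨a, ha⟩ := hq.2 (Ideal.Quotient.mk q.asIdeal s)
    refine ⟨a, fun v => ?_⟩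
    rw [hkπ, ← sub_eq_zero, ← map_sub, ← sub_smul]
    refine (Submodule.Quotient.mk_eq_zero _).2 ?_
    rw [hρ]
    refine Submodule.smul_mem_smul (hmax _ ?_) trivial
    rw [← Ideal.Quotient.eq_zero_iff_mem, map_sub, sub_eq_zero]
    exact ha.symm
  have hWℓ : ∀ w, π (ℓ w) ∈ W := fun w => by
    have hw : w ∈ Submodule.span Γ(X, U) (Set.range ω) := hω ▸ trivial
    refine Submodule.span_induction (fun y hy => ?_) ?_ (fun u v _ _ hu hv => ?_) (fun s v _ hv => ?_) hw
    · obtain ⟨i, rfl⟩ := hy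
      exact Submodule.subset_span ⟨i, rfl⟩
    · rw [map_zero, map_zero]; exact W.zero_mem
    · rw [map_add, map_add]; exact W.add_mem hu hv
    · obtain ⟨a, ha⟩ := hval s
      rw [map_smul, ha]
      exact W.smul_mem _ hv
  have hW : W = ⊤ := eq_top_iff.2 fun w _ => by
    obtain ⟨v, rfl⟩ := hπ w
    obtain ⟨⟨m, s⟩, hms⟩ := IsLocalizedModule.surj q.asIdeal.primeCompl ℓ v
    obtain ⟨a, ha⟩ := hval s.1
    have h1 : a • π v ∈ W := by rw [← ha]; exact (show s.1 • v = ℓ m from hms) ▸ hWℓ m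
    by_cases h0 : a = 0
    · obtain ⟨e, he⟩ := IsLocalization.map_units A s
      have h2 : π (s.1 • v) = 0 := by rw [ha, h0, zero_smul]
      rw [hρ, map_smul, show ρ s.1 = e from he.symm] at h2
      rw [(e.isUnit.smul_eq_zero).1 h2]
      exact W.zero_mem
    · exact (W.smul_mem_iff h0).1 h1
  haveI : Module.Finite k (FixPt.fiber (Omega.sheaf f) x) :=
    ⟨hW ▸ Submodule.fg_span (Set.finite_range _)⟩
  exact LinearMap.finrank_le_finrank_of_surjective hL

end Groth.Agent.OmegaDimLib
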